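import Groth.Agent.Lib.BlowBir9.Basic
import Groth.Agent.Lib.ProjIso26.Basic
import Groth.Agent.Lib.Ample.ProjAmple

/-!
# Applying the blow-up criterion
-/

set_option autoImplicit false
set_option backward.isDefEq.respectTransparency false

universe u

open CategoryTheory CategoryTheory.Limits AlgebraicGeometry TopologicalSpace Opposite

noncomputable section

namespace GrothLib.BlowBir9

theorem exists_isBlowUp_over {X' X : Scheme.{u}} [IsIntegral X'] [IsIntegral X] (M : X.Modules)
    (hM : CohB1.IsAmple M) (f : X' ⟶ X) {n : ℕ} (i : X' ⟶ CohB1.ProjSpaceOver n X) [IsClosedImmersion i]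
    (hi : i ≫ CohB1.ProjSpaceOver.toBase n X = f) (hη : f (genericPoint X') = genericPoint X)
    (hsurj : Function.Surjective (f.stalkMap (genericPoint X'))) :
    ∃ I : X.IdealSheafData, _root_.BlowUp.IsBlowUp f I := by
  let q : X' ⟶ CohB1.ProjSpace n GrothLib.ProjSpCoord.RZ.{u} :=
    i ≫ pullback.fst (CohB1.ProjSpace.toSpec n (ULift.{u} ℤ)) (specULiftZIsTerminal.from X)
  have e : GrothLib.ProjCoh.toProd q f = i := by
    apply pullback.hom_ext
    · simp [GrothLib.ProjCoh.toProd, q]
    · simp only [GrothLib.ProjCoh.toProd, pullback.lift_snd]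
      exact hi.symm
  haveI : IsClosedImmersion (GrothLib.ProjCoh.toProd q f) := e ▸ inferInstance
  exact exists_isBlowUp M hM f q hη hsurj

theorem birational_of_isIso_restrict {X' X : Scheme.{u}} [IsIntegral X'] [IsIntegral X] (f : X' ⟶ X)
    (U : X.Opens) (hU : (U : Set X).Nonempty) (h : IsIso (f ∣_ U)) :
    f (genericPoint X') = genericPoint X ∧ Function.Bijective (f.stalkMap (genericPoint X')) := by
  haveI : Nonempty U := ⟨⟨hU.some, hU.some_mem⟩⟩
  haveI : Nonempty (f ⁻¹ᵁ U : X'.Opens) := ⟨((asIso (f ∣_ U)).inv) ⟨hU.some, hU.some_mem⟩⟩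
  have hη' : genericPoint X' ∈ f ⁻¹ᵁ U := genericPoint_mem ⟨_, (Classical.arbitrary (f ⁻¹ᵁ U : X'.Opens)).2⟩
  refine ⟨?_, ?_⟩
  · apply (genericPoint_spec X).eq ?_ |>.symm
    rw [isGenericPoint_def, Set.eq_univ_iff_forall]
    intro x
    refine mem_closure_iff.2 fun O hO hxO => ?_
    obtain ⟨w, hwO, hwU⟩ : (O ∩ (U : Set X)).Nonempty :=
      nonempty_preirreducible_inter hO U.2 ⟨x, hxO⟩ hU
    obtain ⟨z, hz⟩ : ∃ z : (f ⁻¹ᵁ U : X'.Opens), (f ∣_ U) z = ⟨w, hwU⟩ :=
      (TopCat.homeoOfIso (Scheme.forgetToTop.mapIso (asIso (f ∣_ U)))).surjective _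
    have hz' : f z.1 = w := by
      exact (morphismRestrict_base_coe f U z).symm.trans (congrArg Subtype.val hz)
    refine ⟨_, ?_, rfl⟩
    exact ((genericPoint_spec X').mem_open_set_iff (hO.preimage f.continuous)).2
      ⟨z.1, trivial, show f z.1 ∈ O from hz' ▸ hwO⟩
  · haveI : IsIso ((f ∣_ U).stalkMap ⟨genericPoint X', hη'⟩) := inferInstance
    haveI : IsIso (f.stalkMap (genericPoint X')) :=
      ((MorphismProperty.isomorphisms CommRingCat).arrow_mk_iso_iff
        (morphismRestrictStalkMap f U ⟨genericPoint X', hη'⟩)).1 ‹_›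
    exact ConcreteCategory.bijective_of_isIso _

end GrothLib.BlowBir9

namespace GrothLib.BlowBir9

theorem exists_isBlowUp_projective {k : Type u} [Field k] {X Y : Scheme.{u}} [IsIntegral X] [IsIntegral Y]
    (a b : ℕ) (iX : X ⟶ CohB1.ProjSpace a k) [IsClosedImmersion iX] (iY : Y ⟶ CohB1.ProjSpace b k)
    [IsClosedImmersion iY] (f : X ⟶ Y)
    (hk : f ≫ iY ≫ CohB1.ProjSpace.toSpec b k = iX ≫ CohB1.ProjSpace.toSpec a k)
    (hgen : f (genericPoint X) = genericPoint Y)
    (hsurj : Function.Surjective (f.stalkMap (genericPoint X))) :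
    ∃ I : Y.IdealSheafData, _root_.BlowUp.IsBlowUp f I := by
  haveI := GrothLib.ProjIso26.isIso_toProjSpace a k
  let θ := GrothLib.Ample.ProjMap.toProjSpace a k
  let g : Y ⟶ Spec (CommRingCat.of k) := iY ≫ CohB1.ProjSpace.toSpec b k
  haveI : IsSeparated (CohB1.ProjSpace.toSpec b k) := by
    unfold CohB1.ProjSpace.toSpec
    exact MorphismProperty.comp_mem @IsSeparated _ _ (Proj.isSeparated _) inferInstance
  haveI : IsSeparated g := inferInstance
  let pr := pullback.fst (CohB1.ProjSpace.toSpec a (ULift.{u} ℤ)) (specULiftZIsTerminal.from (Spec (CommRingCat.of k)))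
  let i : X ⟶ CohB1.ProjSpaceOver a Y := pullback.lift (iX ≫ inv θ ≫ pr) f (specULiftZIsTerminal.hom_ext _ _)
  let μ : CohB1.ProjSpaceOver a Y ⟶ CohB1.ProjSpaceOver a (Spec (CommRingCat.of k)) :=
    pullback.lift (pullback.fst _ _) (pullback.snd _ _ ≫ g) (specULiftZIsTerminal.hom_ext _ _)
  have hμ : IsPullback μ (CohB1.ProjSpaceOver.toBase a Y) (CohB1.ProjSpaceOver.toBase a (Spec (CommRingCat.of k))) g := by
    have h1 : IsPullback (μ ≫ pr) (CohB1.ProjSpaceOver.toBase a Y) (CohB1.ProjSpace.toSpec a (ULift.{u} ℤ))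
        (g ≫ specULiftZIsTerminal.from (Spec (CommRingCat.of k))) := by
      rw [show μ ≫ pr = pullback.fst _ _ from pullback.lift_fst _ _ _,
        specULiftZIsTerminal.hom_ext (g ≫ specULiftZIsTerminal.from _) (specULiftZIsTerminal.from Y)]
      exact IsPullback.of_hasPullback _ _
    exact IsPullback.of_right h1 (pullback.lift_snd _ _ _) (IsPullback.of_hasPullback _ _)
  haveI : IsSeparated μ := MorphismProperty.of_isPullback (P := @IsSeparated) hμ.flip inferInstance
  have e : i ≫ μ = iX ≫ inv θ := by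
    apply pullback.hom_ext
    · simp only [i, μ, pr, Category.assoc, pullback.lift_fst]
    · simp only [i, μ, Category.assoc, pullback.lift_snd, pullback.lift_snd_assoc]
      refine hk.trans ?_
      have h2 : inv θ ≫ CohB1.ProjSpaceOver.toBase a (Spec (CommRingCat.of k)) = CohB1.ProjSpace.toSpec a k := by
        rw [IsIso.inv_comp_eq]
        exact (GrothLib.Ample.ProjMap.toProjSpace_toSpec a k).symm
      rw [← h2]
      rfl
  haveI : IsClosedImmersion (i ≫ μ) := e ▸ inferInstance
  haveI : IsClosedImmersion i := IsClosedImmersion.of_comp i μ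
  haveI : IsAffineHom iY := inferInstance
  exact exists_isBlowUp_over _ (GrothLib.Ample.isAmple_pullback_of_isAffineHom iY
    (GrothLib.Ample.isAmple_twistProjSpace_one b k)) f i (pullback.lift_snd _ _ _) hgen hsurj

/-- Bijectivity on residue fields at the generic point gives surjectivity on stalks. -/
theorem surjective_stalkMap_of_residue {X Y : Scheme.{u}} [IsIntegral X] (f : X ⟶ Y)
    (hbir : Function.Bijective (f.residueFieldMap (genericPoint X)).hom) :
    Function.Surjective (f.stalkMap (genericPoint X)) := by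
  intro t
  have hfx : IsField (X.presheaf.stalk (genericPoint X)) := Field.toIsField X.functionField
  obtain ⟨r, hr⟩ := hbir.2 ((X.residue (genericPoint X)).hom t)
  obtain ⟨s, rfl⟩ := Y.residue_surjective (f (genericPoint X)) r
  refine ⟨s, ?_⟩
  letI := hfx.toField
  refine RingHom.injective (X.residue (genericPoint X)).hom ?_
  refine Eq.trans ?_ hr
  exact congrArg (fun ψ : _ ⟶ X.residueField (genericPoint X) => ψ.hom s) (Scheme.residue_residueFieldMap f (genericPoint X)).symm

end GrothLib.BlowBir9
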