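import Groth.Agent.Lib.ProjCoh.Charts
import Groth.Agent.Lib.Ample.ProjExt
import Groth.Agent.Lib.ProjSp.OverAffine

/-!
# Charts of a closed subscheme of relative projective space
-/

set_option autoImplicit false
set_option backward.isDefEq.respectTransparency false

universe u

open AlgebraicGeometry CategoryTheory CategoryTheory.Limits HomogeneousLocalization
  TopologicalSpace GrothLib.ProjPt GrothLib.ProjSpCoord

noncomputable section

namespace GrothLib.BlowBir9

open GrothLib.Ample.ProjMap (pullRatio pcoc)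

variable {n : ℕ} {Y X : Scheme.{u}} (q : Y ⟶ CohB1.ProjSpace n RZ.{u}) (h : Y ⟶ X)

/-- The preimage of a standard chart. -/
abbrev chartU (k : Fin (n + 1)) : Y.Opens := q ⁻¹ᵁ (pcoc n RZ.{u}).D ⟨k⟩

theorem affine_and_gen [IsClosedImmersion (GrothLib.ProjCoh.toProd q h)] (W : X.affineOpens) (k : Fin (n + 1)) :
    IsAffineOpen (chartU q k ⊓ h ⁻¹ᵁ W.1) ∧
      Subring.closure (Set.range (h.appLE W.1 (chartU q k ⊓ h ⁻¹ᵁ W.1) inf_le_right).hom ∪
        Set.range fun l => (Y.presheaf.map (homOfLE (inf_le_left : chartU q k ⊓ h ⁻¹ᵁ W.1 ≤ chartU q k)).op).hom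
          (pullRatio q k l)) = ⊤ := by
  have hW := W.2
  let ι : pullback (Proj.awayι (CohB1.polyGrading n RZ.{u}) (MvPolynomial.X k) (X_mem_one k) one_pos ≫
      CohB1.ProjSpace.toSpec n RZ.{u}) (hW.fromSpec ≫ specULiftZIsTerminal.from X) ⟶
      CohB1.ProjSpaceOver n X :=
    pullback.map _ _ _ _ (Proj.awayι _ _ (X_mem_one k) one_pos) hW.fromSpec (𝟙 _) (Category.comp_id _) (Category.comp_id _)
  let V : Y.Opens := chartU q k ⊓ h ⁻¹ᵁ W.1
  have hrange : GrothLib.ProjCoh.toProd q h ⁻¹ᵁ ι.opensRange = V := by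
    apply Opens.ext
    change (GrothLib.ProjCoh.toProd q h) ⁻¹' Set.range ι = _
    erw [Scheme.Pullback.range_map]
    rw [hW.range_fromSpec, ← Scheme.Hom.coe_opensRange, Proj.opensRange_awayι]
    ext y
    simp only [V, Set.preimage_inter, Set.mem_inter_iff, Set.mem_preimage, Opens.coe_inf,
      Scheme.Hom.coe_preimage, SetLike.mem_coe]
    have e1 : GrothLib.ProjCoh.toProd q h ≫ pullback.fst _ _ = q := pullback.lift_fst _ _ _
    have e2 : GrothLib.ProjCoh.toProd q h ≫ pullback.snd _ _ = h := pullback.lift_snd _ _ _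
    have f1 : q y = (pullback.fst (CohB1.ProjSpace.toSpec n (ULift.{u} ℤ)) (specULiftZIsTerminal.from X))
        ((GrothLib.ProjCoh.toProd q h) y) := (congrArg (fun φ => φ.base y) e1).symm
    have f2 : h y = (pullback.snd (CohB1.ProjSpace.toSpec n (ULift.{u} ℤ)) (specULiftZIsTerminal.from X))
        ((GrothLib.ProjCoh.toProd q h) y) := (congrArg (fun φ => φ.base y) e2).symm
    rw [f1, f2]
    rfl
  have hV : IsAffineOpen V := hrange ▸ (isAffineOpen_opensRange ι).preimage _
  refine ⟨hV, ?_⟩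
  obtain ⟨g₀, hg₀, hgr⟩ := GrothLib.Ample.ProjMap.pullRatio_spec q k
  let g : Away (CohB1.polyGrading n RZ.{u}) (MvPolynomial.X k) →+* Γ(Y, V) :=
    V.topIso.hom.hom.comp ((Y.homOfLE (inf_le_left : V ≤ chartU q k)).appTop.hom.comp g₀)
  have hg : Spec.map (CommRingCat.ofHom g) ≫ Proj.awayι _ (MvPolynomial.X k) (X_mem_one k) one_pos =
      hV.fromSpec ≫ q := by
    rw [← cancel_epi hV.isoSpec.hom, IsAffineOpen.isoSpec_hom_fromSpec_assoc]
    have e : V.ι ≫ q = Y.homOfLE (inf_le_left : V ≤ chartU q k) ≫ (chartU q k).ι ≫ q :=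
      (congrArg (· ≫ q) (Scheme.homOfLE_ι Y _).symm).trans (Category.assoc _ _ _)
    rw [e, hg₀, ProjPt.comp_pt]
    simp only [pt, g, IsAffineOpen.isoSpec_hom, CommRingCat.ofHom_comp, CommRingCat.ofHom_hom, Spec.map_comp,
      Category.assoc]
    rw [Scheme.Opens.toSpecΓ]
    simp only [Category.assoc, ← Spec.map_comp_assoc]
    simp [← Functor.map_comp]
    erw [Spec.map_id, Category.id_comp]
  have hgl : ∀ l, g (ProjSpCoord.ratio k l) =
      (Y.presheaf.map (homOfLE (inf_le_left : V ≤ chartU q k)).op).hom (pullRatio q k l) := by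
    intro l
    show V.topIso.hom.hom ((Y.homOfLE (inf_le_left : V ≤ chartU q k)).appTop.hom (g₀ (GrothLib.Ample.ProjMap.ratio k l))) = _
    rw [hgr l]
    have := GrothLib.Ample.ProjMap.Data.appTop_topIso_inv (Y := Y) (Y.homOfLE (inf_le_left : V ≤ chartU q k))
      V.ι (Scheme.homOfLE_ι _ _) (fun z _ => (inf_le_left : V ≤ chartU q k) z.2) (pullRatio q k l)
    refine (congrArg V.topIso.hom.hom this).trans ?_
    rw [Scheme.Opens.ι_appLE]
    simp only [Scheme.Opens.topIso_hom]
    rw [← RingHom.comp_apply, ← CommRingCat.hom_comp, ← Functor.map_comp]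
    rfl
  set R0 := Subring.closure (Set.range (h.appLE W.1 V inf_le_right).hom ∪
      Set.range fun l ↦ (Y.presheaf.map (homOfLE (inf_le_left : V ≤ chartU q k)).op).hom (pullRatio q k l))
  have hr : ∀ l, g (ProjSpCoord.ratio k l) ∈ R0 := fun l ↦ (hgl l).symm ▸ Subring.subset_closure (Or.inr ⟨l, rfl⟩)
  let r' : Fin (n + 1) → R0 := fun l ↦ ⟨g (ProjSpCoord.ratio k l), hr l⟩
  have hu : IsUnit (evalTuple r' (MvPolynomial.X k)) := by
    rw [evalTuple_X, show r' k = 1 from Subtype.ext (ratio_self_map g)]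
    exact isUnit_one
  let g0 := evalAway (CohB1.polyGrading n RZ.{u}) (evalTuple r') (MvPolynomial.X k) hu
  have hg0 : R0.subtype.comp g0 = g := by
    refine ProjSpCoord.awayHom_ext fun l ↦ ?_
    have e := evalAway_ratio (evalTuple r') k l hu
    rw [evalTuple_X, evalTuple_X, show r' k = 1 from Subtype.ext (ratio_self_map g), mul_one] at e
    exact congrArg R0.subtype e
  let w0 : Γ(X, W.1) →+* R0 := (h.appLE W.1 V inf_le_right).hom.codRestrict R0
    fun a ↦ Subring.subset_closure (Or.inl ⟨a, rfl⟩)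
  let k0 : Spec (CommRingCat.of R0) ⟶ pullback
      (Proj.awayι (CohB1.polyGrading n RZ.{u}) (MvPolynomial.X k) (X_mem_one k) one_pos ≫
        CohB1.ProjSpace.toSpec n RZ.{u}) (hW.fromSpec ≫ specULiftZIsTerminal.from X) :=
    pullback.lift (Spec.map (CommRingCat.ofHom g0)) (Spec.map (CommRingCat.ofHom w0))
      (specULiftZIsTerminal.hom_ext _ _)
  let s : Spec Γ(Y, V) ⟶ Spec (CommRingCat.of R0) :=
    Spec.map (CommRingCat.ofHom R0.subtype)
  have hsk : (s ≫ k0) ≫ ι = hV.fromSpec ≫ GrothLib.ProjCoh.toProd q h := by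
    apply pullback.hom_ext
    · simp only [ι, k0, GrothLib.ProjCoh.toProd, Category.assoc, pullback.lift_fst, pullback.lift_fst_assoc, s]
      rw [← Spec.map_comp_assoc, ← CommRingCat.ofHom_comp, hg0]
      exact hg
    · simp only [ι, k0, GrothLib.ProjCoh.toProd, Category.assoc, pullback.lift_snd, pullback.lift_snd_assoc, s]
      rw [← Spec.map_comp_assoc, ← CommRingCat.ofHom_comp]
      exact IsAffineOpen.SpecMap_appLE_fromSpec h hW hV inf_le_right
  have hpre : GrothLib.ProjCoh.toProd q h ⁻¹ᵁ ι.opensRange = hV.fromSpec.opensRange := by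
    rw [hrange, hV.opensRange_fromSpec]
  have hk : IsClosedImmersion (s ≫ k0) :=
    MorphismProperty.of_isPullback (P := @IsClosedImmersion)
      (IsOpenImmersion.isPullback (s ≫ k0) hV.fromSpec ι (GrothLib.ProjCoh.toProd q h) hsk.symm hpre).flip ‹_›
  have : IsClosedImmersion s := IsClosedImmersion.of_comp s k0
  have hs : Function.Surjective R0.subtype := by
    have := (HasAffineProperty.iff_of_isAffine (P := @IsClosedImmersion) (f := s)).1 ‹_›
    have h2 := this.2
    intro a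
    obtain ⟨b, hb⟩ := h2 ((Scheme.ΓSpecIso Γ(Y, V)).inv a)
    refine ⟨(Scheme.ΓSpecIso (CommRingCat.of R0)).hom b, ?_⟩
    apply (Scheme.ΓSpecIso Γ(Y, V)).symm.commRingCatIsoToRingEquiv.injective
    refine Eq.trans ?_ hb
    have hn := congrArg (fun φ => φ.hom b) (Scheme.ΓSpecIso_naturality (CommRingCat.ofHom R0.subtype))
    exact (congrArg (Scheme.ΓSpecIso Γ(Y, V)).inv hn.symm).trans
      (Iso.hom_inv_id_apply (Scheme.ΓSpecIso Γ(Y, V)) _)
  exact eq_top_iff.2 fun a _ ↦ let ⟨⟨_, hb⟩, e⟩ := hs a; e ▸ hb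

end GrothLib.BlowBir9
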