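import Groth.Agent.Lib.BlowBir9.Univ
import Groth.Agent.Lib.BlowBir9.Chart
import Groth.Agent.Lib.Jets.ZeroIdeal
import Groth.Agent.Lib.Ample.Criterion
import Mathlib.AlgebraicGeometry.FunctionField

/-!
# Birational closed subschemes of relative projective space are blow-ups
-/

set_option autoImplicit false
set_option backward.isDefEq.respectTransparency false
set_option maxHeartbeats 800000

universe u

open CategoryTheory CategoryTheory.Limits AlgebraicGeometry TopologicalSpace Opposite
open GrothLib.Ample (Cocycle)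

noncomputable section

namespace GrothLib.BlowBir9

variable {X' X : Scheme.{u}}

theorem genericPoint_mem [IsIntegral X] {U : X.Opens} (h : (U : Set X).Nonempty) : genericPoint X ∈ U :=
  ((genericPoint_spec X).mem_open_set_iff U.2).2 (by rwa [Set.univ_inter])

theorem germ_res {U V : X.Opens} (h : V ≤ U) {x : X} (hx : x ∈ V) (s : Γ(X, U)) :
    X.presheaf.germ V x hx (res h s) = X.presheaf.germ U x (h hx) s :=
  TopCat.Presheaf.germ_res_apply X.presheaf (homOfLE h) x hx s

theorem germ_ares {U V : X.Opens} (h : V ≤ U) {x : X} (hx : x ∈ V) (s : Γ(X, U)) :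
    X.presheaf.germ V x hx (GrothLib.Ample.res h s) = X.presheaf.germ U x (h hx) s :=
  TopCat.Presheaf.germ_res_apply X.presheaf (homOfLE h) x hx s

theorem germ_appLE (f : X' ⟶ X) {W : X.Opens} {V : X'.Opens} (h : V ≤ f ⁻¹ᵁ W) {x : X'} (hx : x ∈ V)
    (s : Γ(X, W)) :
    X'.presheaf.germ V x hx (f.appLE W V h s) = (f.stalkMap x).hom (X.presheaf.germ W (f x) (h hx) s) := by
  erw [Scheme.Hom.germ_stalkMap_apply f W x (h hx) s]
  show X'.presheaf.germ V x hx ((X'.presheaf.map (homOfLE h).op).hom (f.app W s)) = _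
  exact TopCat.Presheaf.germ_res_apply X'.presheaf (homOfLE h) x hx _

/-- A birational closed subscheme of projective space over an integral scheme with an ample module is a blow-up. -/
theorem exists_isBlowUp [IsIntegral X'] [IsIntegral X] (M : X.Modules) (hM : CohB1.IsAmple M)
    {n : ℕ} (f : X' ⟶ X) (q : X' ⟶ CohB1.ProjSpace n GrothLib.ProjSpCoord.RZ.{u})
    [IsClosedImmersion (GrothLib.ProjCoh.toProd q f)]
    (hη : f (genericPoint X') = genericPoint X)
    (hsurj : Function.Surjective (f.stalkMap (genericPoint X'))) :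
    ∃ I : X.IdealSheafData, _root_.BlowUp.IsBlowUp f I := by
  classical
  obtain ⟨c, ⟨eM⟩⟩ := Ample.exists_cocycle hM.1
  obtain ⟨hcpt, hamp⟩ := (c.isAmple_iff eM).1 hM
  haveI := hcpt
  haveI : QuasiSeparatedSpace X := c.quasiSeparatedSpace_of_isAmp hamp
  set η' := genericPoint X'
  set η := f η'
  have hfield : IsField (X.presheaf.stalk η) := by
    rw [show η = genericPoint X from hη]; exact Field.toIsField X.functionField
  have hunit : ∀ s : X.presheaf.stalk η, s ≠ 0 → IsUnit s := fun s hs =>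
    IsUnit.of_mul_eq_one _ (hfield.mul_inv_cancel hs).choose_spec
  have hinjstalk : Function.Injective (f.stalkMap η').hom := by
    letI := hfield.toField
    exact RingHom.injective _
  let D := Ample.ProjMap.dataOfMorphism q (specULiftZIsTerminal.from X' : X' ⟶ Spec (CommRingCat.of GrothLib.ProjSpCoord.RZ.{u}))
  obtain ⟨j0, hj0⟩ : ∃ j, η' ∈ D.U j := Opens.mem_iSup.1 (D.cover.ge trivial)
  let t : Fin (n + 1) → X'.presheaf.stalk η' := fun l => X'.presheaf.germ (D.U j0) η' hj0 (D.φ j0 l)
  choose s hs using fun l => hsurj (t l)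
  -- representatives on one affine open
  choose O hηO r hr using fun l => TopCat.Presheaf.exists_germ_eq X.presheaf (s l)
  obtain ⟨W0, hηW0, hW0⟩ : ∃ W0 : X.Opens, η ∈ W0 ∧ ∀ l, W0 ≤ O l :=
    ⟨Finset.univ.inf O, by
      suffices h : ∀ T : Finset (Fin (n + 1)), η ∈ T.inf O from h _
      intro T
      induction T using Finset.induction with
      | empty => simp
      | insert a T _ ih => rw [Finset.inf_insert]; exact ⟨hηO a, ih⟩,
      fun l => Finset.inf_le (Finset.mem_univ l)⟩
  obtain ⟨k, a, hηa, haW, -⟩ := c.exists_affine_locus_le hamp hηW0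
  choose m b hb using fun l => c.exists_extend a (res (haW.trans (hW0 l)) (r l))
  let m₀ := Finset.univ.sup m
  have hdeg : ∀ l, (k + 1) * m l + (k + 1) * (m₀ - m l) = (k + 1) * m₀ := fun l => by
    rw [← Nat.mul_add, Nat.add_sub_cancel' (Finset.le_sup (Finset.mem_univ l))]
  let σ : Fin (n + 1) → c.sect ((k + 1) * m₀) ⊤ := fun l =>
    c.sectCast (hdeg l) (c.mul (b l) (c.sectPow a (m₀ - m l)))
  -- the germs of the equations
  have hσ : ∀ (i : c.ι) (hi : η ∈ c.D i), ∃ A : X.presheaf.stalk η, A ≠ 0 ∧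
      ∀ l, X.presheaf.germ _ η (⟨trivial, hi⟩ : η ∈ (⊤ : X.Opens) ⊓ c.D i) ((σ l).1 i) = s l * A := by
    intro i hi
    let A₁ := X.presheaf.germ _ η (⟨trivial, hi⟩ : η ∈ (⊤ : X.Opens) ⊓ c.D i) (a.1 i)
    have hA₁ : IsUnit A₁ := (X.mem_basicOpen (a.1 i) η ⟨trivial, hi⟩).1 ((c.mem_locus_iff a hi).1 hηa)
    refine ⟨A₁ ^ m₀, (hA₁.pow _).ne_zero, fun l => ?_⟩
    have hbl : X.presheaf.germ _ η (⟨trivial, hi⟩ : η ∈ (⊤ : X.Opens) ⊓ c.D i) ((b l).1 i) = s l * A₁ ^ m l := by
      have e := congrArg (fun x : c.sect _ _ => X.presheaf.germ _ η (⟨hηa, hi⟩ : η ∈ c.locus a ⊓ c.D i) (x.1 i)) (hb l)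
      simp only [Cocycle.sectRes_apply, Cocycle.smul_apply, Cocycle.sectPow_apply, map_mul, map_pow] at e
      rw [← hr l]
      simp only [germ_ares, germ_res] at e
      exact e
    show X.presheaf.germ _ η _ ((b l).1 i * a.1 i ^ (m₀ - m l)) = _
    rw [map_mul, map_pow, hbl, mul_assoc, ← pow_add, Nat.add_sub_cancel' (Finset.le_sup (Finset.mem_univ l))]
  let d := (k + 1) * m₀
  let I : X.IdealSheafData := ⨆ l, PicF2.zeroScheme (c.twist d) (c.hom (σ l))
  have ht : ∀ (l k' : Fin (n + 1)) (hk : η' ∈ D.U k'),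
      t l = t k' * X'.presheaf.germ (D.U k') η' hk (D.φ k' l) := by
    intro l k' hk
    have e := congrArg (X'.presheaf.germ (D.U j0 ⊓ D.U k') η' ⟨hj0, hk⟩)
      (D.change j0 k' l _ inf_le_left inf_le_right)
    rw [map_mul] at e
    simp only [germ_ares, germ_res] at e
    exact e
  have ht0 : ∀ k', t k' ≠ 0 ↔ η' ∈ D.U k' := by
    intro k'
    have hb : X'.basicOpen (D.φ j0 k') = D.U j0 ⊓ D.U k' := D.basicOpen_eq j0 k'
    refine ⟨fun h => (hb.le ((X'.mem_basicOpen (D.φ j0 k') η' hj0).2 (isUnit_iff_ne_zero.2 h))).2, fun h => ?_⟩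
    exact ((X'.mem_basicOpen (D.φ j0 k') η' hj0).1 (hb.ge ⟨hj0, h⟩)).ne_zero
  refine ⟨I, Charts.isBlowUp (N := n)
    { U := D.U
      φ := D.φ
      cover := fun z => Opens.mem_iSup.1 (D.cover.ge trivial)
      basicOpen := D.basicOpen_eq
      affine := fun W k' => (affine_and_gen q f W k').1
      gen := fun W k' => (affine_and_gen q f W k').2
      inj := fun W V h hV => ?_
      eqns := fun x => ?_ }⟩
  · refine (injective_iff_map_eq_zero _).2 fun e he => ?_
    have h0 := germ_appLE f h (genericPoint_mem hV) e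
    rw [he, map_zero] at h0
    have h1 : X.presheaf.germ W.1 η (h (genericPoint_mem hV)) e = 0 := hinjstalk (h0.symm.trans (map_zero _).symm)
    exact germ_injective_of_isIntegral X η (h (genericPoint_mem hV)) (h1.trans (map_zero _).symm)
  · obtain ⟨i, hi⟩ := c.exists_mem x
    obtain ⟨W, hxW, hW⟩ := GrothLib.BlowUp.exists_affine_mem_le hi
    have hηW : η ∈ W.1 := hη ▸ genericPoint_mem ⟨x, hxW⟩
    obtain ⟨A, hA, hAl⟩ := hσ i (hW hηW)
    let a' : Fin (n + 1) → Γ(X, W.1) := fun l => res (le_inf le_top hW) ((σ l).1 i)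
    have ha' : ∀ l, X.presheaf.germ W.1 η hηW (a' l) = s l * A := fun l => by
      rw [← hAl l]; exact germ_res _ _ _
    refine ⟨W, hxW, ⟨{ a := a', ideal := ?_, rel := ?_, ne := ?_, ne' := ?_ }⟩⟩
    · have hl : ∀ l, (PicF2.zeroScheme (c.twist d) (c.hom (σ l))).ideal W = Ideal.span {a' l} := fun l => by
        refine GrothLib.Jets.zeroScheme_ideal_gen (c.isInvertible_twist d) _ W (c.isGen_base d i hW) ?_
        refine (c.hom_app_one (σ l) W.1).trans ?_
        refine c.sect_ext_of_le hW ?_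
        erw [Cocycle.smul_apply]
        rw [c.base_self, mul_one]
        exact (GrothLib.Ample.res_res _ _ _).symm
      show (⨆ l, _ : X.IdealSheafData).ideal W = _
      rw [Scheme.IdealSheafData.ideal_iSup, iSup_apply]
      exact (iSup_congr hl).trans (Submodule.span_range_eq_iSup (R := Γ(X, W.1)) (v := a')).symm
    · intro k' l V hk hV
      by_cases hne : (V : Set X').Nonempty
      · have hη'V := genericPoint_mem hne
        refine germ_injective_of_isIntegral X' η' hη'V ?_
        show X'.presheaf.germ V η' hη'V _ = _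
        rw [map_mul]
        erw [germ_appLE f hV hη'V (a' l), germ_appLE f hV hη'V (a' k'), germ_res hk hη'V, ha', ha']
        rw [map_mul, map_mul, hs, hs, ht l k' (hk hη'V)]
        ring
      · obtain rfl : V = ⊥ := Opens.ext (Set.not_nonempty_iff_eq_empty.1 hne)
        haveI : Subsingleton Γ(X', ⊥) :=
          CommRingCat.subsingleton_of_isTerminal X'.sheaf.isTerminalOfEmpty
        exact Subsingleton.elim _ _
    · intro k' hk'
      have h1 : s k' ≠ 0 := fun h0 => hk' (germ_injective_of_isIntegral X η hηW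
        (show X.presheaf.germ W.1 η hηW (a' k') = _ by rw [ha', h0, zero_mul, map_zero]))
      exact ⟨η', (ht0 k').1 (hs k' ▸ fun h0 => h1 (hinjstalk (h0.trans (map_zero _).symm))), hηW⟩
    · intro k' hk' h0
      have h1 := congrArg (X.presheaf.germ W.1 η hηW) h0
      rw [ha', map_zero] at h1
      have hsk : s k' = 0 := by
        by_contra hc
        exact (mul_ne_zero_iff.2 ⟨hc, hA⟩ : _) h1
      refine (ht0 k').2 (genericPoint_mem (hk'.mono (fun z hz => hz.1))) ?_
      rw [← hs k', hsk]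
      exact map_zero _

end GrothLib.BlowBir9
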