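import Groth.Prelude.Def_BlowUp2
import Groth.Agent.Lib.BlowUp.EffCartier
import Mathlib.AlgebraicGeometry.Gluing
import Mathlib.AlgebraicGeometry.Properties

/-!
# A criterion for being a blow-up in terms of charts generated by ratios
-/

set_option autoImplicit false
set_option backward.isDefEq.respectTransparency false

universe u

open CategoryTheory CategoryTheory.Limits AlgebraicGeometry TopologicalSpace Opposite

noncomputable section

namespace GrothLib.BlowBir9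

variable {X' X : Scheme.{u}}

/-- Restriction of functions. -/
abbrev res {Z : Scheme.{u}} {U V : Z.Opens} (h : V ≤ U) : Γ(Z, U) →+* Γ(Z, V) :=
  (Z.presheaf.map (homOfLE h).op).hom

/-- Equations of the centre on an affine open, proportional to the ratios. -/
structure Eqns (f : X' ⟶ X) (I : X.IdealSheafData) {N : ℕ} (U : Fin (N + 1) → X'.Opens)
    (φ : ∀ k (_ : Fin (N + 1)), Γ(X', U k)) (W : X.affineOpens) where
  /-- the equations -/
  a : Fin (N + 1) → Γ(X, W.1)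
  ideal : I.ideal W = Ideal.span (Set.range a)
  rel : ∀ k l (V : X'.Opens) (hk : V ≤ U k) (hW : V ≤ f ⁻¹ᵁ W.1),
    f.appLE W.1 V hW (a l) = res hk (φ k l) * f.appLE W.1 V hW (a k)
  ne : ∀ k, a k ≠ 0 → ((U k ⊓ f ⁻¹ᵁ W.1 : X'.Opens) : Set X').Nonempty
  ne' : ∀ k, ((U k ⊓ f ⁻¹ᵁ W.1 : X'.Opens) : Set X').Nonempty → a k ≠ 0

/-- A morphism covered by charts generated by ratios which are proportional to equations of `I`. -/
structure Charts (f : X' ⟶ X) (I : X.IdealSheafData) (N : ℕ) where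
  /-- the charts -/
  U : Fin (N + 1) → X'.Opens
  /-- the ratios -/
  φ : ∀ k (_ : Fin (N + 1)), Γ(X', U k)
  cover : ∀ z, ∃ k, z ∈ U k
  basicOpen : ∀ k l, X'.basicOpen (φ k l) = U k ⊓ U l
  affine : ∀ (W : X.affineOpens) k, IsAffineOpen (U k ⊓ f ⁻¹ᵁ W.1)
  gen : ∀ (W : X.affineOpens) k,
    Subring.closure (Set.range (f.appLE W.1 (U k ⊓ f ⁻¹ᵁ W.1) inf_le_right).hom ∪
      Set.range fun l => res (inf_le_left : U k ⊓ f ⁻¹ᵁ W.1 ≤ U k) (φ k l)) = ⊤
  inj : ∀ (W : X.affineOpens) (V : X'.Opens) (h : V ≤ f ⁻¹ᵁ W.1), (V : Set X').Nonempty →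
    Function.Injective (f.appLE W.1 V h)
  eqns : ∀ x : X, ∃ W : X.affineOpens, x ∈ W.1 ∧ Nonempty (Eqns f I U φ W)

variable {f : X' ⟶ X} {I : X.IdealSheafData} {N : ℕ} (C : Charts f I N)

namespace Charts

include C in
theorem isEffCartierIdeal [IsIntegral X'] : _root_.BlowUp.IsEffCartierIdeal (I.comap f) := by
  intro z
  obtain ⟨W, hW, ⟨E⟩⟩ := C.eqns (f z)
  obtain ⟨k, hk⟩ := C.cover z
  let V : X'.affineOpens := ⟨C.U k ⊓ f ⁻¹ᵁ W.1, C.affine W k⟩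
  haveI : Nonempty V.1 := ⟨⟨z, hk, hW⟩⟩
  refine ⟨V, ⟨hk, hW⟩, f.appLE W.1 V.1 inf_le_right (E.a k), mem_nonZeroDivisors_of_ne_zero fun h0 => ?_, ?_⟩
  · exact E.ne' k ⟨z, hk, hW⟩ (C.inj W V.1 inf_le_right ⟨z, hk, hW⟩ (h0.trans (map_zero _).symm))
  · rw [GrothLib.BlowUp.ideal_comap_eq_map I f W V inf_le_right, E.ideal, Ideal.map_span, ← Set.range_comp]
    refine le_antisymm (Ideal.span_le.2 ?_) ((Ideal.span_singleton_le_iff_mem _).2 (Ideal.subset_span ⟨k, rfl⟩))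
    rintro _ ⟨l, rfl⟩
    exact Ideal.mem_span_singleton.2 ⟨res inf_le_left (C.φ k l),
      (E.rel k l V.1 inf_le_left inf_le_right).trans (mul_comm _ _)⟩

section target

variable {Y : Scheme.{u}} {g : Y ⟶ X}

/-- The equation `a k` generates the pulled-back centre on `V` by a nonzerodivisor. -/
def Good (g : Y ⟶ X) {W : X.affineOpens} (a : Fin (N + 1) → Γ(X, W.1)) (k : Fin (N + 1))
    (V : Y.affineOpens) (hV : V.1 ≤ g ⁻¹ᵁ W.1) : Prop :=
  g.appLE W.1 V.1 hV (a k) ∈ nonZeroDivisors Γ(Y, V.1) ∧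
    ∀ l, ∃ c, g.appLE W.1 V.1 hV (a l) = c * g.appLE W.1 V.1 hV (a k)

theorem exists_good (hg : _root_.BlowUp.IsEffCartierIdeal (I.comap g)) (y : Y) :
    ∃ (W : X.affineOpens) (E : Eqns f I C.U C.φ W) (k : Fin (N + 1)) (V : Y.affineOpens) (hV : V.1 ≤ g ⁻¹ᵁ W.1),
      y ∈ V.1 ∧ Good g E.a k V hV := by
  obtain ⟨W, hW, ⟨E⟩⟩ := C.eqns (g y)
  obtain ⟨V, hyV, hVW, b, hb, hbI⟩ := GrothLib.BlowUp.exists_cartierOn_le hg (W := g ⁻¹ᵁ W.1) (x := y) hW
  rw [GrothLib.BlowUp.ideal_comap_eq_map I g W V hVW, E.ideal, Ideal.map_span, ← Set.range_comp] at hbI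
  let α : Fin (N + 1) → Γ(Y, V.1) := fun l => g.appLE W.1 V.1 hVW (E.a l)
  have hc : ∀ l, ∃ c, α l = c * b := fun l => by
    obtain ⟨c, hc⟩ := Ideal.mem_span_singleton.1 (hbI.le (Ideal.subset_span ⟨l, rfl⟩))
    exact ⟨c, hc.trans (mul_comm _ _)⟩
  choose c hc using hc
  obtain ⟨d, hd⟩ := (Ideal.mem_span_range_iff_exists_fun).1 (hbI.ge (Ideal.mem_span_singleton_self b))
  have h1 : ∑ l, d l * c l = 1 := by
    refine (mul_cancel_right_mem_nonZeroDivisors hb).1 ?_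
    rw [one_mul, Finset.sum_mul]
    refine Eq.trans (Finset.sum_congr rfl fun l _ => ?_) hd
    rw [mul_assoc, ← hc]
    rfl
  obtain ⟨k, hk⟩ : ∃ k, y ∈ Y.basicOpen (c k) := by
    have hs : Ideal.span (Set.range c) = ⊤ :=
      (Ideal.eq_top_iff_one _).2 (Ideal.mem_span_range_iff_exists_fun.2 ⟨d, h1⟩)
    obtain ⟨⟨_, k, rfl⟩, hk⟩ := Opens.mem_iSup.1 ((V.2.self_le_iSup_basicOpen_iff.2 hs) hyV)
    exact ⟨k, hk⟩
  let V' : Y.affineOpens := Y.affineBasicOpen (c k)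
  have hle : V'.1 ≤ V.1 := Y.basicOpen_le _
  have hu : IsUnit (res hle (c k)) :=
    RingedSpace.isUnit_res_basicOpen (X := Y.toLocallyRingedSpace.toRingedSpace) (c k)
  have hr : ∀ l, g.appLE W.1 V'.1 (hle.trans hVW) (E.a l) = res hle (c l) * res hle b := fun l => by
    rw [← map_mul, ← hc]
    exact (CommRingCat.comp_apply _ _ _).symm.trans
      (congrArg (fun ψ => ψ.hom (E.a l)) (Scheme.Hom.appLE_map g hVW (homOfLE hle).op)) |>.symm
  refine ⟨W, E, k, V', hle.trans hVW, hk, ?_, fun l => ⟨res hle (c l) * ↑(hu.unit⁻¹), ?_⟩⟩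
  · rw [hr]
    exact mul_mem hu.mem_nonZeroDivisors
      (GrothLib.BlowUp.mem_nonZeroDivisors_of_flat _ (GrothLib.BlowUp.flat_res hle) hb)
  · rw [hr, hr, mul_assoc, ← mul_assoc (↑(hu.unit⁻¹) : Γ(Y, V'.1)), IsUnit.val_inv_mul, one_mul]

variable {W : X.affineOpens} {a : Fin (N + 1) → Γ(X, W.1)} {k : Fin (N + 1)} {V : Y.affineOpens}
  {hV : V.1 ≤ g ⁻¹ᵁ W.1}

/-- `z` corresponds to `w`: both are the fraction `e / a k ^ d`. -/
def Corr (a : Fin (N + 1) → Γ(X, W.1)) (k : Fin (N + 1)) (V : Y.affineOpens) (hV : V.1 ≤ g ⁻¹ᵁ W.1)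
    (z : Γ(X', C.U k ⊓ f ⁻¹ᵁ W.1)) (w : Γ(Y, V.1)) : Prop :=
  ∃ (d : ℕ) (e : Γ(X, W.1)),
    f.appLE W.1 _ inf_le_right e = z * f.appLE W.1 _ inf_le_right (a k) ^ d ∧
    g.appLE W.1 V.1 hV e = w * g.appLE W.1 V.1 hV (a k) ^ d

theorem corr_unique (E : Eqns f I C.U C.φ W) (hgood : Good g E.a k V hV)
    {z : Γ(X', C.U k ⊓ f ⁻¹ᵁ W.1)} {w w' : Γ(Y, V.1)} (h : C.Corr E.a k V hV z w)
    (h' : C.Corr E.a k V hV z w') : w = w' := by
  rcases subsingleton_or_nontrivial Γ(Y, V.1) with hs | hs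
  · exact Subsingleton.elim _ _
  have hne : E.a k ≠ 0 := fun h0 => nonZeroDivisors.ne_zero hgood.1 (by rw [h0, map_zero])
  obtain ⟨d, e, he, hw⟩ := h
  obtain ⟨d', e', he', hw'⟩ := h'
  have key : e * E.a k ^ d' = e' * E.a k ^ d := C.inj W _ inf_le_right (E.ne k hne) (by
    rw [map_mul, map_mul, map_pow, map_pow, he, he']; ring)
  have := congrArg (g.appLE W.1 V.1 hV) key
  rw [map_mul, map_mul, map_pow, map_pow, hw, hw', mul_assoc, mul_assoc, ← pow_add, ← pow_add,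
    add_comm d d'] at this
  exact (mul_cancel_right_mem_nonZeroDivisors (pow_mem hgood.1 _)).1 this

theorem corr_total (E : Eqns f I C.U C.φ W) (hgood : Good g E.a k V hV)
    (z : Γ(X', C.U k ⊓ f ⁻¹ᵁ W.1)) : ∃ w, C.Corr E.a k V hV z w := by
  have hz : z ∈ Subring.closure (Set.range (f.appLE W.1 (C.U k ⊓ f ⁻¹ᵁ W.1) inf_le_right).hom ∪
      Set.range fun l => res (inf_le_left : C.U k ⊓ f ⁻¹ᵁ W.1 ≤ C.U k) (C.φ k l)) :=
    (C.gen W k).ge trivial
  induction hz using Subring.closure_induction with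
  | mem x hx =>
    rcases hx with ⟨e, rfl⟩ | ⟨l, rfl⟩
    · exact ⟨g.appLE W.1 V.1 hV e, 0, e, by rw [pow_zero, mul_one], by rw [pow_zero, mul_one]⟩
    · obtain ⟨c, hc⟩ := hgood.2 l
      exact ⟨c, 1, E.a l, by rw [pow_one]; exact E.rel k l _ inf_le_left inf_le_right,
        by rw [pow_one]; exact hc⟩
  | zero => exact ⟨0, 0, 0, by simp, by simp⟩
  | one => exact ⟨1, 0, 1, by simp, by simp⟩
  | add x y _ _ hx hy =>
    obtain ⟨w, d, e, he, hw⟩ := hx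
    obtain ⟨w', d', e', he', hw'⟩ := hy
    refine ⟨w + w', d + d', e * E.a k ^ d' + e' * E.a k ^ d, ?_, ?_⟩
    · rw [map_add, map_mul, map_mul, map_pow, map_pow, he, he', pow_add]; ring
    · rw [map_add, map_mul, map_mul, map_pow, map_pow, hw, hw', pow_add]; ring
  | neg x _ hx =>
    obtain ⟨w, d, e, he, hw⟩ := hx
    exact ⟨-w, d, -e, by rw [map_neg, he, neg_mul], by rw [map_neg, hw, neg_mul]⟩
  | mul x y _ _ hx hy =>
    obtain ⟨w, d, e, he, hw⟩ := hx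
    obtain ⟨w', d', e', he', hw'⟩ := hy
    refine ⟨w * w', d + d', e * e', ?_, ?_⟩
    · rw [map_mul, he, he', pow_add]; ring
    · rw [map_mul, hw, hw', pow_add]; ring

theorem exists_hom (E : Eqns f I C.U C.φ W) (hgood : Good g E.a k V hV) :
    ∃ h : (V.1 : Scheme.{u}) ⟶ X', h ≫ f = V.1.ι ≫ g := by
  choose ψ hψ using C.corr_total E hgood
  let Ψ : Γ(X', C.U k ⊓ f ⁻¹ᵁ W.1) →+* Γ(Y, V.1) :=
    { toFun := ψ
      map_one' := C.corr_unique E hgood (hψ 1) ⟨0, 1, by simp, by simp⟩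
      map_zero' := C.corr_unique E hgood (hψ 0) ⟨0, 0, by simp, by simp⟩
      map_add' := fun x y => C.corr_unique E hgood (hψ (x + y)) (by
        obtain ⟨d, e, he, hw⟩ := hψ x
        obtain ⟨d', e', he', hw'⟩ := hψ y
        refine ⟨d + d', e * E.a k ^ d' + e' * E.a k ^ d, ?_, ?_⟩
        · rw [map_add, map_mul, map_mul, map_pow, map_pow, he, he', pow_add]; ring
        · rw [map_add, map_mul, map_mul, map_pow, map_pow, hw, hw', pow_add]; ring)
      map_mul' := fun x y => C.corr_unique E hgood (hψ (x * y)) (by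
        obtain ⟨d, e, he, hw⟩ := hψ x
        obtain ⟨d', e', he', hw'⟩ := hψ y
        refine ⟨d + d', e * e', ?_, ?_⟩
        · rw [map_mul, he, he', pow_add]; ring
        · rw [map_mul, hw, hw', pow_add]; ring) }
  have hΨ : f.appLE W.1 (C.U k ⊓ f ⁻¹ᵁ W.1) inf_le_right ≫ CommRingCat.ofHom Ψ = g.appLE W.1 V.1 hV := by
    ext e
    exact C.corr_unique E hgood (hψ _) ⟨0, e, by rw [pow_zero, mul_one]; rfl, by rw [pow_zero, mul_one]⟩
  refine ⟨V.2.isoSpec.hom ≫ Spec.map (CommRingCat.ofHom Ψ) ≫ (C.affine W k).fromSpec, ?_⟩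
  rw [Category.assoc, Category.assoc, ← IsAffineOpen.SpecMap_appLE_fromSpec f W.2 (C.affine W k) inf_le_right,
    ← Spec.map_comp_assoc, hΨ, IsAffineOpen.SpecMap_appLE_fromSpec g W.2 V.2 hV, ← Category.assoc,
    IsAffineOpen.isoSpec_hom_fromSpec]

include C in
theorem hom_ext (hg : _root_.BlowUp.IsEffCartierIdeal (I.comap g)) (h h' : Y ⟶ X') (hh : h ≫ f = g)
    (hh' : h' ≫ f = g) : h = h' := by
  refine Scheme.hom_ext_of_forall _ _ fun y => ?_
  obtain ⟨W, E, k, V, hV, hy, hgood⟩ := C.exists_good hg y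
  have key : ∀ h : Y ⟶ X', h ≫ f = g → ∃ e : V.1 ≤ h ⁻¹ᵁ (C.U k ⊓ f ⁻¹ᵁ W.1),
      ∀ z, C.Corr E.a k V hV z (h.appLE _ V.1 e z) := by
    intro h hh
    have hW : ∀ O : Y.Opens, O ≤ V.1 → O ≤ h ⁻¹ᵁ (f ⁻¹ᵁ W.1) := fun O hO => by
      rw [← Scheme.Hom.comp_preimage, hh]; exact hO.trans hV
    have e : V.1 ≤ h ⁻¹ᵁ (C.U k ⊓ f ⁻¹ᵁ W.1) := by
      intro z hz
      obtain ⟨j, hj⟩ := C.cover (h z)
      obtain ⟨O, hzO, hO⟩ := GrothLib.BlowUp.exists_affine_mem_le (W := V.1 ⊓ h ⁻¹ᵁ C.U j) (x := z) ⟨hz, hj⟩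
      have hOV : O.1 ≤ V.1 := hO.trans inf_le_left
      have hOj : O.1 ≤ h ⁻¹ᵁ (C.U j ⊓ f ⁻¹ᵁ W.1) := le_inf (hO.trans inf_le_right) (hW _ hOV)
      let η := h.appLE (C.U j ⊓ f ⁻¹ᵁ W.1) O.1 hOj
      have hη : ∀ x, η (f.appLE W.1 _ inf_le_right x) = g.appLE W.1 O.1 (hOV.trans hV) x := fun x => by
        subst hh
        exact congrArg (fun ψ => ψ.hom x) (Scheme.Hom.appLE_comp_appLE h f W.1 _ O.1 inf_le_right hOj)
      have hres : ∀ x, res hOV (g.appLE W.1 V.1 hV x) = g.appLE W.1 O.1 (hOV.trans hV) x := fun x =>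
        congrArg (fun ψ => ψ.hom x) (Scheme.Hom.appLE_map g hV (homOfLE hOV).op)
      obtain ⟨c, hc⟩ := hgood.2 j
      have h1 := congrArg η (E.rel j k (C.U j ⊓ f ⁻¹ᵁ W.1) inf_le_left inf_le_right)
      rw [map_mul, hη, hη] at h1
      have h2 := congrArg (res hOV) hc
      rw [map_mul, hres, hres] at h2
      have hnz : g.appLE W.1 O.1 (hOV.trans hV) (E.a k) ∈ nonZeroDivisors Γ(Y, O.1) := hres (E.a k) ▸
        GrothLib.BlowUp.mem_nonZeroDivisors_of_flat _ (GrothLib.BlowUp.flat_res hOV) hgood.1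
      have hu : IsUnit (η (res inf_le_left (C.φ j k))) := IsUnit.of_mul_eq_one (res hOV c)
        ((mul_cancel_right_mem_nonZeroDivisors hnz).1 (by rw [one_mul, mul_assoc, ← h2]; exact h1.symm))
      refine ⟨?_, hW _ le_rfl hz⟩
      have hz' : z ∈ Y.basicOpen (η (res inf_le_left (C.φ j k))) := (Y.basicOpen_of_isUnit hu).ge hzO
      rw [Scheme.basicOpen_appLE, Scheme.basicOpen_res, C.basicOpen] at hz'
      exact hz'.2.2.2
    refine ⟨e, fun z => ?_⟩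
    obtain ⟨w, d, a, ha, hw⟩ := C.corr_total E hgood z
    have hη : ∀ x, h.appLE _ V.1 e (f.appLE W.1 _ inf_le_right x) = g.appLE W.1 V.1 hV x := fun x => by
      subst hh
      exact congrArg (fun ψ => ψ.hom x) (Scheme.Hom.appLE_comp_appLE h f W.1 _ V.1 inf_le_right e)
    refine ⟨d, a, ha, ?_⟩
    rw [← hη, ha, map_mul, map_pow, hη]
  obtain ⟨e, he⟩ := key h hh
  obtain ⟨e', he'⟩ := key h' hh'
  have heq : h.appLE _ V.1 e = h'.appLE _ V.1 e' := by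
    ext z
    exact C.corr_unique E hgood (he z) (he' z)
  refine ⟨V.1, hy, ?_⟩
  rw [← cancel_epi V.2.isoSpec.inv, ← Category.assoc, ← Category.assoc]
  show V.2.fromSpec ≫ h = V.2.fromSpec ≫ h'
  rw [← IsAffineOpen.SpecMap_appLE_fromSpec h (C.affine W k) V.2 e,
    ← IsAffineOpen.SpecMap_appLE_fromSpec h' (C.affine W k) V.2 e', heq]

end target

include C in
theorem isBlowUp [IsIntegral X'] : _root_.BlowUp.IsBlowUp f I := by
  refine ⟨C.isEffCartierIdeal, fun Y g hg => ?_⟩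
  choose W E k V hV hy hgood using C.exists_good hg
  choose h hh using fun y => C.exists_hom (E y) (hgood y)
  let 𝒰 : Y.OpenCover := Y.openCoverOfIsOpenCover (fun y => (V y).1)
    (top_unique fun y _ => Opens.mem_iSup.2 ⟨y, hy y⟩)
  have hcompat : ∀ x y : Y, pullback.fst (𝒰.f x) (𝒰.f y) ≫ h x = pullback.snd (𝒰.f x) (𝒰.f y) ≫ h y := by
    intro x y
    refine C.hom_ext (g := pullback.fst (𝒰.f x) (𝒰.f y) ≫ 𝒰.f x ≫ g) ?_ _ _ ?_ ?_
    · rw [Scheme.IdealSheafData.comap_comp, Scheme.IdealSheafData.comap_comp]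
      exact GrothLib.BlowUp.isEffCartierIdeal_comap_of_flat _ (GrothLib.BlowUp.isEffCartierIdeal_comap_of_flat _ hg)
    · rw [Category.assoc, hh]; rfl
    · rw [Category.assoc, hh, ← Category.assoc (pullback.fst _ _) (𝒰.f x) g, pullback.condition, Category.assoc]; rfl
  refine ⟨𝒰.glueMorphisms h hcompat, Scheme.Cover.hom_ext 𝒰 _ _ fun y => ?_, fun h' hh' => ?_⟩
  · rw [Scheme.Cover.ι_glueMorphisms_assoc]
    exact hh y
  · refine C.hom_ext hg _ _ hh' (Scheme.Cover.hom_ext 𝒰 _ _ fun y => ?_)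
    rw [Scheme.Cover.ι_glueMorphisms_assoc]
    exact hh y

end Charts

end GrothLib.BlowBir9
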